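import Cfsg.Agent.Lib.SmallGroups.MElevenDegrees.Local
import Mathlib

/-!
The character degrees of a simple group of order 7920: the principal blocks for the primes 11 and 5 and
the sum of the squares determine them.
-/

set_option autoImplicit false

noncomputable section

namespace CfsgLib.SmallGroups.MElevenDegrees

open Subgroup CfsgLib.InvolChar Cfsg

variable {G : Type*} [Group G] [Fintype G] [IsSimpleGroup G]

theorem eq_irrOne_of_deg_one (hna : ¬ IsMulCommutative G) (χ : IrrCharacter G) (h : deg χ = 1) :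
    χ = CfsgLib.Char.irrOne := by
  have h1 : (χ : G → ℂ) 1 = 1 := by rw [deg_spec χ, h, Nat.cast_one]
  let φ : G →* ℂ :=
    { toFun := (χ : G → ℂ)
      map_one' := h1
      map_mul' := CfsgLib.Char.linear_map_mul (CfsgLib.Char.isCharacter_of_isIrr χ.2) h1 }
  refine Subtype.ext (funext fun g => ?_)
  rw [CfsgLib.Char.irrOne_apply]
  have hg : g ∈ φ.toHomUnits.ker := Abelianization.commutator_subset_ker _
    (by rw [CfsgLib.SmallGroups.commutator_eq_top_of_simple hna]; exact Subgroup.mem_top g)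
  exact congrArg Units.val (MonoidHom.mem_ker.mp hg)

theorem x_values : ∀ d ∈ List.range 89, 2 ≤ d → d ∣ 7920 → d % 11 = 1 ∨ d % 11 = 10 →
    d = 10 ∨ d = 12 ∨ d = 45 := by decide +kernel

theorem y_values : ∀ d ∈ List.range 89, d ∣ 7920 → d % 11 = 5 ∨ d % 11 = 6 → 2 * (d * d) ≤ 7920 →
    d = 5 ∨ d = 6 ∨ d = 16 ∨ d = 60 := by decide +kernel

theorem r_values : ∀ d ∈ List.range 72, d ∣ 7920 → d % 11 = 0 → 0 < d →
    (d % 5 = 0 ∨ d % 5 = 1 ∨ d % 5 = 4) → d = 11 ∨ d = 44 ∨ d = 55 ∨ d = 66 := by decide +kernel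

/-- Signed degree modulo 5. -/
def sgn5 (d : ℕ) : ℤ := if d % 5 = 1 then (d : ℤ) else if d % 5 = 4 then -(d : ℤ) else 0

set_option maxHeartbeats 1000000 in
/-- The degrees, as a sum over the characters. -/
theorem sum_degrees (hG : Nat.card G = 7920) (F : ℕ → ℤ) :
    ∑ χ : IrrCharacter G, F (deg χ) =
      F 1 + 3 * F 10 + F 45 + 2 * F 16 + F 11 + F 44 + F 55 := by
  classical
  haveI : Fact (Nat.Prime 11) := ⟨by norm_num⟩
  haveI : Fact (Nat.Prime 5) := ⟨by norm_num⟩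
  have hna := not_comm_of_card hG
  set one : IrrCharacter G := CfsgLib.Char.irrOne with hone
  have hdvd : ∀ χ : IrrCharacter G, deg χ ∣ 7920 := fun χ =>
    hG ▸ CfsgLib.Char.degree_dvd_card χ.2 (deg_spec χ)
  have hsq : ∑ χ : IrrCharacter G, deg χ * deg χ = 7920 := by
    have h := CfsgLib.Char.sum_degree_sq (G := G)
    simp only [deg_spec, hG, ← pow_two] at h ⊢
    exact_mod_cast h
  have hle : ∀ χ : IrrCharacter G, deg χ < 89 := fun χ => by
    have := Finset.single_le_sum (f := fun χ => deg χ * deg χ) (fun _ _ => Nat.zero_le _) (Finset.mem_univ χ)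
    rw [hsq] at this
    nlinarith
  have hge : ∀ χ : IrrCharacter G, χ ≠ one → 2 ≤ deg χ := fun χ hχ => by
    have h0 := deg_pos χ
    rcases Nat.lt_or_ge (deg χ) 2 with h | h
    · exact absurd (eq_irrOne_of_deg_one hna χ (by omega)) hχ
    · exact h
  -- the prime 11
  obtain ⟨P⟩ := (inferInstance : Nonempty (Sylow 11 G))
  obtain ⟨hP, hC, he⟩ := eleven hG P
  obtain ⟨X, Y, s, ε, f, hdisj, hXc, hYc, h1, hout, hX, hε, hY, hf, hrel⟩ :=
    self_centralizing_block (by norm_num) P hP hC 5 he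
  have h1X : one ∈ X := by
    refine (Finset.mem_union.mp h1).resolve_right fun h => ?_
    have := hY one h
    rw [hone, deg_irrOne] at this
    rw [← this] at hf
    rcases hε with rfl | rfl <;> norm_num at hf
  have hs1 : s one = 1 := by
    obtain ⟨h, h'⟩ := hX one h1X
    rw [hone, deg_irrOne] at h'
    rcases h with h | h
    · exact h
    · rw [← hone] at h'; rw [h] at h'; norm_num at h'
  set X' := X.erase one with hX'
  have hXv : ∀ χ ∈ X', (deg χ = 10 ∧ s χ = -1) ∨ (deg χ = 12 ∧ s χ = 1) ∨ (deg χ = 45 ∧ s χ = 1) := by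
    intro χ hχ
    obtain ⟨hne, hχX⟩ := Finset.mem_erase.mp hχ
    obtain ⟨hs, hd⟩ := hX χ hχX
    have h := x_values (deg χ) (List.mem_range.mpr (hle χ)) (hge χ hne) (hdvd χ)
      (by rcases hs with h | h <;> rw [h] at hd <;> omega)
    rcases hs with h' | h' <;> rw [h'] at hd ⊢ <;> rcases h with h | h | h <;> rw [h] at hd ⊢ <;> omega
  have hXsum : ∀ K : IrrCharacter G → ℤ, ∀ a b c : ℤ,
      (∀ χ ∈ X', (deg χ = 10 → K χ = a) ∧ (deg χ = 12 → K χ = b) ∧ (deg χ = 45 → K χ = c)) →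
      ∑ χ ∈ X', K χ = ((X'.filter fun χ => deg χ = 10).card : ℤ) * a +
        ((X'.filter fun χ => deg χ = 12).card : ℤ) * b + ((X'.filter fun χ => deg χ = 45).card : ℤ) * c := by
    intro K a b c hK
    rw [← Finset.sum_boole, ← Finset.sum_boole, ← Finset.sum_boole, Finset.sum_mul, Finset.sum_mul, Finset.sum_mul,
      ← Finset.sum_add_distrib, ← Finset.sum_add_distrib]
    refine Finset.sum_congr rfl fun χ hχ => ?_
    rcases hXv χ hχ with ⟨h, -⟩ | ⟨h, -⟩ | ⟨h, -⟩
    · simp [h, (hK χ hχ).1 h]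
    · simp [h, (hK χ hχ).2.1 h]
    · simp [h, (hK χ hχ).2.2 h]
  set i := (X'.filter fun χ => deg χ = 10).card with hi
  set j := (X'.filter fun χ => deg χ = 12).card with hj
  set l := (X'.filter fun χ => deg χ = 45).card with hl
  have hijl : i + j + l = 4 := by
    have h := hXsum (fun _ => 1) 1 1 1 fun _ _ => ⟨fun _ => rfl, fun _ => rfl, fun _ => rfl⟩
    rw [Finset.sum_const, nsmul_one, Finset.card_erase_of_mem h1X, hXc] at h
    omega
  have hrel' : ε * (f : ℤ) = 1 - 10 * i + 12 * j + 45 * l := by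
    rw [hrel, ← Finset.add_sum_erase _ _ h1X, hs1, hone, deg_irrOne, ← hone, ← hX',
      hXsum (fun χ => s χ * (deg χ : ℤ)) (-10) 12 45 (fun χ hχ => by
        rcases hXv χ hχ with ⟨h, h'⟩ | ⟨h, h'⟩ | ⟨h, h'⟩ <;> simp [h, h'])]
    push_cast
    ring
  set R := Finset.univ \ (X ∪ Y) with hR
  have hYc2 : Y.card = 2 := by rw [hYc]
  have hsplit : ∀ K : ℕ → ℤ, ∑ χ : IrrCharacter G, K (deg χ) =
      K 1 + ((i : ℤ) * K 10 + (j : ℤ) * K 12 + (l : ℤ) * K 45) + 2 * K f + ∑ χ ∈ R, K (deg χ) := by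
    intro K
    rw [hR, ← Finset.sum_sdiff (Finset.subset_univ (X ∪ Y)), Finset.sum_union hdisj,
      ← Finset.add_sum_erase _ _ h1X, ← hX',
      hXsum (fun χ => K (deg χ)) (K 10) (K 12) (K 45)
        (fun χ _ => ⟨fun h => by rw [h], fun h => by rw [h], fun h => by rw [h]⟩),
      Finset.sum_congr rfl (fun θ hθ => by rw [hY θ hθ] : ∀ θ ∈ Y, K (deg θ) = K f), Finset.sum_const,
      hYc2, hone, deg_irrOne, nsmul_eq_mul]
    push_cast
    ring
  have hfv : f = 5 ∨ f = 6 ∨ f = 16 ∨ f = 60 := by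
    obtain ⟨θ, hθ⟩ := Finset.card_pos.mp (hYc2 ▸ Nat.two_pos : 0 < Y.card)
    refine y_values f (List.mem_range.mpr (hY θ hθ ▸ hle θ)) (hY θ hθ ▸ hdvd θ)
      (by rcases hε with rfl | rfl <;> omega) ?_
    have h := Finset.sum_le_sum_of_subset (f := fun χ => deg χ * deg χ) (Finset.subset_univ Y)
    rw [hsq, Finset.sum_congr rfl (fun χ hχ => by rw [hY χ hχ] : ∀ χ ∈ Y, deg χ * deg χ = f * f),
      Finset.sum_const, hYc2, smul_eq_mul] at h
    exact h
  have hsqZ : (1 : ℤ) + (100 * i + 144 * j + 2025 * l) + 2 * ((f : ℤ) * f) +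
      ∑ χ ∈ R, (deg χ : ℤ) * deg χ = 7920 := by
    have h := hsplit fun d => (d : ℤ) * d
    have h2 : ∑ χ : IrrCharacter G, (deg χ : ℤ) * deg χ = 7920 := by exact_mod_cast hsq
    rw [h2] at h
    push_cast at h
    linarith
  have hRnn : (0 : ℤ) ≤ ∑ χ ∈ R, (deg χ : ℤ) * deg χ := Finset.sum_nonneg fun χ _ => by positivity
  have hopt : (i = 2 ∧ j = 2 ∧ l = 0 ∧ f = 5) ∨ (i = 3 ∧ j = 0 ∧ l = 1 ∧ f = 16) := by
    rcases hfv with rfl | rfl | rfl | rfl <;> rcases hε with rfl | rfl <;> push_cast at hrel' hsqZ hf <;> omega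
  -- the prime 5
  have h10 : 0 < i := by rcases hopt with h | h <;> omega
  obtain ⟨χ₀, hχ₀⟩ := Finset.card_pos.mp (hi ▸ h10)
  obtain ⟨Q⟩ := (inferInstance : Nonempty (Sylow 5 G))
  obtain ⟨hQ, hCQ, heQ⟩ := five hG χ₀ (Finset.mem_filter.mp hχ₀).2 Q
  obtain ⟨X5, Y5, s5, ε5, f5, hdisj5, hX5c, hY5c, -, hout5, hX5, hε5, hY5, hf5, hrel5⟩ :=
    self_centralizing_block (by norm_num) Q hQ hCQ 4 heQ
  have hY5c1 : Y5.card = 1 := by rw [hY5c]
  have hmem5 : ∀ χ ∈ X5 ∪ Y5, deg χ % 5 = 1 ∨ deg χ % 5 = 4 := by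
    intro χ hχ
    rcases Finset.mem_union.mp hχ with h | h
    · obtain ⟨hs, hd⟩ := hX5 χ h
      rcases hs with e | e <;> rw [e] at hd <;> omega
    · rw [hY5 χ h]
      rcases hε5 with rfl | rfl <;> omega
  have hout5' : ∀ χ, χ ∉ X5 ∪ Y5 → deg χ % 5 = 0 := fun χ h => by
    rw [Finset.mem_union, not_or] at h
    exact Nat.mod_eq_zero_of_dvd (hout5 χ h.1 h.2)
  have hmod5 : ∀ χ : IrrCharacter G, deg χ % 5 = 0 ∨ deg χ % 5 = 1 ∨ deg χ % 5 = 4 := fun χ => by
    by_cases h : χ ∈ X5 ∪ Y5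
    · exact Or.inr (hmem5 χ h)
    · exact Or.inl (hout5' χ h)
  obtain ⟨hi3, hj0, hl1, hf16⟩ : i = 3 ∧ j = 0 ∧ l = 1 ∧ f = 16 := by
    refine hopt.resolve_left fun h => ?_
    obtain ⟨χ, hχ⟩ := Finset.card_pos.mp (by omega : 0 < j)
    have := hmod5 χ
    rw [(Finset.mem_filter.mp hχ).2] at this
    omega
  have hcount5 : ∑ χ : IrrCharacter G, (if deg χ % 5 = 0 then (0 : ℤ) else 1) = 5 := by
    rw [← Finset.sum_sdiff (Finset.subset_univ (X5 ∪ Y5)),
      Finset.sum_eq_zero (fun χ hχ => if_pos (hout5' χ (Finset.mem_sdiff.mp hχ).2)), zero_add,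
      Finset.sum_congr rfl (fun χ hχ => if_neg (by have := hmem5 χ hχ; omega)), Finset.sum_const,
      Finset.card_union_of_disjoint hdisj5, hX5c, hY5c1]
    norm_num
  have hsign5 : ∑ χ : IrrCharacter G, sgn5 (deg χ) = 0 := by
    rw [← Finset.sum_sdiff (Finset.subset_univ (X5 ∪ Y5)),
      Finset.sum_eq_zero (fun χ hχ => by
        have := hout5' χ (Finset.mem_sdiff.mp hχ).2
        simp [sgn5, this]), zero_add, Finset.sum_union hdisj5,
      Finset.sum_congr rfl (g := fun χ => s5 χ * (deg χ : ℤ)) (fun χ hχ => by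
        obtain ⟨hs, hd⟩ := hX5 χ hχ
        rcases hs with e | e <;> rw [e] at hd ⊢
        · simp [sgn5, show deg χ % 5 = 1 by omega]
        · simp [sgn5, show deg χ % 5 = 4 by omega]),
      Finset.sum_congr (s₁ := Y5) rfl (g := fun _ => -(ε5 * (f5 : ℤ))) (fun χ hχ => by
        rw [hY5 χ hχ]
        rcases hε5 with rfl | rfl
        · simp [sgn5, show f5 % 5 = 4 by omega]
        · simp [sgn5, show f5 % 5 = 1 by omega]),
      Finset.sum_const, hY5c1, one_smul, ← hrel5, add_neg_cancel]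
  -- the other characters
  have hsqR : ∑ χ ∈ R, (deg χ : ℤ) * deg χ = 5082 := by
    rw [hi3, hj0, hl1, hf16] at hsqZ
    push_cast at hsqZ
    omega
  have hRv : ∀ χ ∈ R, deg χ = 11 ∨ deg χ = 44 ∨ deg χ = 55 ∨ deg χ = 66 := by
    intro χ hχ
    rw [hR, Finset.mem_sdiff, Finset.mem_union, not_or] at hχ
    refine r_values (deg χ) (List.mem_range.mpr ?_) (hdvd χ) (Nat.mod_eq_zero_of_dvd (hout χ hχ.2.1 hχ.2.2))
      (deg_pos χ) (hmod5 χ)
    have h := Finset.single_le_sum (f := fun χ => (deg χ : ℤ) * deg χ) (fun χ _ => by positivity)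
      (show χ ∈ R by rw [hR, Finset.mem_sdiff, Finset.mem_union, not_or]; exact hχ)
    rw [hsqR] at h
    nlinarith
  have hRsum : ∀ K : ℕ → ℤ, ∑ χ ∈ R, K (deg χ) = ((R.filter fun χ => deg χ = 11).card : ℤ) * K 11 +
      ((R.filter fun χ => deg χ = 44).card : ℤ) * K 44 + ((R.filter fun χ => deg χ = 55).card : ℤ) * K 55 +
      ((R.filter fun χ => deg χ = 66).card : ℤ) * K 66 := by
    intro K
    rw [← Finset.sum_boole, ← Finset.sum_boole, ← Finset.sum_boole, ← Finset.sum_boole, Finset.sum_mul,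
      Finset.sum_mul, Finset.sum_mul, Finset.sum_mul, ← Finset.sum_add_distrib, ← Finset.sum_add_distrib,
      ← Finset.sum_add_distrib]
    refine Finset.sum_congr rfl fun χ hχ => ?_
    rcases hRv χ hχ with h | h | h | h <;> simp [h]
  have e1 := (hsplit fun d => if d % 5 = 0 then (0 : ℤ) else 1).symm.trans hcount5
  have e2 := (hsplit sgn5).symm.trans hsign5
  rw [hRsum (fun d => if d % 5 = 0 then (0 : ℤ) else 1), hi3, hj0, hl1, hf16] at e1
  rw [hRsum sgn5, hi3, hj0, hl1, hf16] at e2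
  rw [hRsum (fun d => (d : ℤ) * d)] at hsqR
  norm_num [sgn5] at e1 e2 hsqR
  rw [hsplit F, hRsum F, hi3, hj0, hl1, hf16]
  set a := (R.filter fun χ => deg χ = 11).card
  set b := (R.filter fun χ => deg χ = 44).card
  set c := (R.filter fun χ => deg χ = 55).card
  set d := (R.filter fun χ => deg χ = 66).card
  obtain ⟨ha, hb, hc, hd⟩ : a = 1 ∧ b = 1 ∧ c = 1 ∧ d = 0 := by omega
  rw [ha, hb, hc, hd]
  push_cast
  ring

/-- **The degrees.** -/
theorem main (hG : Nat.card G = 7920) : Nat.card (IrrCharacter G) = 10 ∧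
    ∀ n : ℕ, Nat.card {χ : IrrCharacter G // charDegree (χ : G → ℂ) = n} =
      if n = 1 ∨ n = 11 ∨ n = 44 ∨ n = 45 ∨ n = 55 then 1 else if n = 10 then 3 else if n = 16 then 2 else 0 := by
  classical
  refine ⟨?_, fun n => ?_⟩
  · have h := sum_degrees hG fun _ => 1
    rw [Finset.sum_const, Finset.card_univ, nsmul_one] at h
    rw [Nat.card_eq_fintype_card]
    exact_mod_cast h
  · have h := sum_degrees hG fun d => if d = n then 1 else 0
    rw [Finset.sum_boole] at h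
    have hc : Nat.card {χ : IrrCharacter G // charDegree (χ : G → ℂ) = n} =
        (Finset.univ.filter fun χ : IrrCharacter G => deg χ = n).card := by
      rw [Nat.card_eq_fintype_card, Fintype.card_subtype]
      exact congrArg Finset.card (Finset.filter_congr fun χ _ => by
        rw [CfsgLib.SmallGroups.BrauerFew.deg_eq_charDegree χ])
    rw [hc]
    split_ifs at h <;> split_ifs <;> push_cast at h <;> omega

end CfsgLib.SmallGroups.MElevenDegrees
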