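import Cfsg.Agent.Lib.Blocks.CyclicPrincipal
import Cfsg.Agent.Lib.SmallGroups.DegreeTwoP.Constituents
import Cfsg.Agent.Lib.SmallGroups.BrauerFew.Block
import Cfsg.Agent.Lib.Invol.ZStarBasic
import Cfsg.Agent.Lib.InvolChar.Basic
import Mathlib

/-!
The degrees of the characters for a self-centralising Sylow subgroup of prime order: they are divisible
by `p` outside the principal block, and the signed degrees in it add up to zero.
-/

set_option autoImplicit false

noncomputable section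

namespace CfsgLib.SmallGroups.MElevenDegrees

open Subgroup CfsgLib.InvolChar CfsgLib.Blocks CfsgLib.Blocks.PrimeSylow Cfsg
open scoped ComplexConjugate
attribute [local instance] Classical.propDecidable

variable {H : Type*} [Group H] [Fintype H] {p : ℕ} [hp : Fact p.Prime]

set_option maxHeartbeats 800000 in
/-- The degrees when a Sylow subgroup of order `p` is its own centraliser. -/
theorem self_centralizing_block (hp2 : p ≠ 2) (P : Sylow p H) (hP : Nat.card P = p)
    (hC : Nat.card (centralizer ((P : Subgroup H) : Set H)) = p) (e : ℕ)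
    (he : (centralizer ((P : Subgroup H) : Set H)).relIndex (normalizer ((P : Subgroup H) : Set H)) = e) :
    ∃ (X Y : Finset (IrrCharacter H)) (s : IrrCharacter H → ℤ) (ε : ℤ) (f : ℕ),
      Disjoint X Y ∧ X.card = e ∧ Y.card = (p - 1) / e ∧ CfsgLib.Char.irrOne ∈ X ∪ Y ∧
      (∀ χ, χ ∉ X → χ ∉ Y → p ∣ deg χ) ∧
      (∀ χ ∈ X, (s χ = 1 ∨ s χ = -1) ∧ (p : ℤ) ∣ (deg χ : ℤ) - s χ) ∧
      (ε = 1 ∨ ε = -1) ∧ (∀ θ ∈ Y, deg θ = f) ∧ (p : ℤ) ∣ (f : ℤ) - ε * e ∧
      ε * (f : ℤ) = ∑ χ ∈ X, s χ * (deg χ : ℤ) := by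
  classical
  obtain ⟨M, hM⟩ := CfsgLib.Invol.exists_isPModular p hp.out
  haveI := hM.2.1
  obtain ⟨X, Y, hB, hXY, hXc, hYc, -, εX, ε, hX, hε, hYdeg, hYeq, hYrel⟩ :=
    principal_block_prime_sylow P hM hP e he
  let Xf : Finset (IrrCharacter H) := Finset.univ.filter (· ∈ X)
  let Yf : Finset (IrrCharacter H) := Finset.univ.filter (· ∈ Y)
  have hXf : ∀ χ, χ ∈ Xf ↔ χ ∈ X := fun χ => by simp [Xf]
  have hYf : ∀ χ, χ ∈ Yf ↔ χ ∈ Y := fun χ => by simp [Yf]
  have hXcard : Xf.card = e := by rw [← hXc, Nat.card_eq_fintype_card, Fintype.card_subtype]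
  have hYcard : Yf.card = (p - 1) / e := by rw [← hYc, Nat.card_eq_fintype_card, Fintype.card_subtype]
  have hblock : ∀ χ, χ ∈ principalBlock M H ↔ χ ∈ Xf ∪ Yf := fun χ => by
    rw [hB, Finset.mem_union, hXf, hYf, Set.mem_union]
  have hdisj : Disjoint Xf Yf := Finset.disjoint_left.mpr fun χ h h' =>
    Set.disjoint_left.mp hXY ((hXf χ).mp h) ((hYf χ).mp h')
  -- the values vanish outside the block
  have hzero : ∀ χ, χ ∉ Xf → χ ∉ Yf → ∀ i : ZMod p, i ≠ 0 → (χ : H → ℂ) (pw P hP i) = 0 := by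
    intro χ hχX hχY i hi
    have hb := column_inner P hM hP hi hi
    rw [if_pos (IsConj.refl _)] at hb
    have hall := CfsgLib.Char.second_orthogonality (pw P hP i) (pw P hP i)
    rw [if_pos (IsConj.refl _), centralizer_pw P hP hi, hC] at hall
    have hdiff : ∑ χ : IrrCharacter H, (if χ ∈ principalBlock M H then 0 else
        Complex.normSq ((χ : H → ℂ) (pw P hP i)) : ℝ) = 0 := by
      have h2 : (∑ χ : IrrCharacter H, ((if χ ∈ principalBlock M H then 0 else
          Complex.normSq ((χ : H → ℂ) (pw P hP i)) : ℝ) : ℂ)) = 0 := by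
        calc _ = ∑ χ : IrrCharacter H, ((χ : H → ℂ) (pw P hP i) * conj ((χ : H → ℂ) (pw P hP i)) -
              if χ ∈ principalBlock M H then
                (χ : H → ℂ) (pw P hP i) * conj ((χ : H → ℂ) (pw P hP i)) else 0) :=
              Finset.sum_congr rfl fun χ _ => by split_ifs <;> simp [Complex.mul_conj]
          _ = 0 := by rw [Finset.sum_sub_distrib, hall, hb, sub_self]
      exact_mod_cast h2
    have h3 := (Finset.sum_eq_zero_iff_of_nonneg fun χ _ => by
      split_ifs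
      · exact le_rfl
      · exact Complex.normSq_nonneg _).mp hdiff χ (Finset.mem_univ χ)
    rw [if_neg (by rw [hblock, Finset.mem_union]; tauto)] at h3
    exact Complex.normSq_eq_zero.mp h3
  have hout : ∀ χ, χ ∉ Xf → χ ∉ Yf → p ∣ deg χ := by
    intro χ h1 h2
    have hx : Nat.card (zpowers (gen P hP)) = p := by rw [Nat.card_zpowers, orderOf_gen]
    obtain ⟨a, ha⟩ := DegreeTwoP.exists_fixedMult (H := H) hx
    haveI := Fintype.ofFinite (zpowers (gen P hP))
    have h := DegreeTwoP.sum_zpowers_const hx (χ : H → ℂ) 0 (fun u hu hu1 => by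
      obtain ⟨i, rfl⟩ := pw_surjOn P hP (zpowers_gen P hP ▸ hu : u ∈ (P : Subgroup H))
      exact hzero χ h1 h2 i fun h => hu1 (by rw [h, pw_zero]))
    rw [ha inferInstance χ, mul_zero, add_zero, deg_spec] at h
    exact ⟨a χ, by exact_mod_cast h.symm⟩
  have hdeg : ∀ χ : IrrCharacter H, charDegree (χ : H → ℂ) = deg χ :=
    CfsgLib.SmallGroups.BrauerFew.deg_eq_charDegree
  have hone : CfsgLib.Char.irrOne ∈ Xf ∪ Yf := (hblock _).mp irrOne_mem_principalBlock
  have he0 : 0 < e ∧ e ≤ p - 1 := by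
    have h := relIndex_dvd P hP
    rw [he] at h
    have := hp.out.two_le
    exact ⟨Nat.pos_of_ne_zero fun h0 => by rw [h0, Nat.zero_dvd] at h; omega, Nat.le_of_dvd (by omega) h⟩
  obtain ⟨θ, hθ⟩ := Finset.card_pos.mp (hYcard ▸ Nat.div_pos he0.2 he0.1 : 0 < Yf.card)
  refine ⟨Xf, Yf, εX, ε, deg θ, hdisj, hXcard, hYcard, hone, hout, fun χ hχ => ?_, hε, fun θ' hθ' => ?_, ?_, ?_⟩
  · obtain ⟨h1, h2, -⟩ := hX χ ((hXf χ).mp hχ)
    rw [hdeg] at h2
    exact ⟨h1, Int.ModEq.dvd h2.symm⟩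
  · have h := hYeq θ' ((hYf θ').mp hθ') θ ((hYf θ).mp hθ) 1 (by rw [orderOf_one]; exact hp.out.not_dvd_one)
    rw [deg_spec θ', deg_spec θ] at h
    exact_mod_cast h
  · have h := hYdeg θ ((hYf θ).mp hθ)
    rw [hdeg] at h
    exact Int.ModEq.dvd h.symm
  · have h := hYrel θ ((hYf θ).mp hθ) 1 (by rw [orderOf_one]; exact hp.out.not_dvd_one)
    rw [finsum_mem_eq_sum_of_inter_support_eq (t := Xf) _ (by ext χ; simp [Xf]), deg_spec,
      Finset.sum_congr rfl fun χ _ => by rw [deg_spec χ]] at h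
    exact_mod_cast h

end CfsgLib.SmallGroups.MElevenDegrees
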