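import Cfsg.Agent.Lib.SmallGroups.MElevenDegrees.Block
import Cfsg.Agent.Lib.KnownSimple.Order7920.FortyFive
import Cfsg.Agent.Lib.SmallGroups.SignedData
import Cfsg.Agent.Lib.SmallGroups.AbelianSylow
import Cfsg.Agent.Lib.Char.DefectZero
import Cfsg.Agent.Lib.SmallGroups.Order459648.Local
import Mathlib

/-!
The local structure of a simple group of order 7920 at the primes 11 and 5.
-/

set_option autoImplicit false

noncomputable section

namespace CfsgLib.SmallGroups.MElevenDegrees

open Subgroup CfsgLib.InvolChar CfsgLib.Blocks.PrimeSylow Cfsg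

variable {G : Type*} [Group G] [Fintype G] [IsSimpleGroup G]

theorem not_comm_of_card (hG : Nat.card G = 7920) : ¬ IsMulCommutative G := fun hc => by
  letI : CommGroup G := { (inferInstance : Group G) with mul_comm := mul_comm' }
  have := IsSimpleGroup.prime_card (α := G)
  rw [hG] at this
  norm_num at this

/-- The arithmetic of a Sylow subgroup of prime order. -/
theorem sylow_numbers (hG : Nat.card G = 7920) {p m : ℕ} [hp : Fact p.Prime] (hm : 7920 = p * m)
    (hpm : ¬ p ∣ m) (P : Sylow p G) :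
    Nat.card (P : Subgroup G) = p ∧ ∃ n c e : ℕ, Nat.card (Sylow p G) = n ∧
      Nat.card (centralizer ((P : Subgroup G) : Set G)) = c ∧
      (centralizer ((P : Subgroup G) : Set G)).relIndex (normalizer ((P : Subgroup G) : Set G)) = e ∧
      n % p = 1 ∧ n ≠ 1 ∧ n ∣ m ∧ c * e * n = 7920 ∧ e ∣ p - 1 ∧ e ≠ 1 ∧ p ∣ c := by
  have hna := not_comm_of_card hG
  have hG' : Nat.card G = p ^ 1 * m := by rw [hG, hm, pow_one]
  have hP : Nat.card (P : Subgroup G) = p := by simpa using card_sylow_eq hG' hpm P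
  refine ⟨hP, _, _, _, rfl, rfl, rfl, ?_, ?_, ?_, ?_, relIndex_dvd P hP, ?_, ?_⟩
  · have h := card_sylow_modEq_one p G
    rwa [Nat.ModEq, Nat.mod_eq_of_lt hp.out.one_lt] at h
  · intro h1
    rw [card_sylow_eq_index P, Subgroup.index_eq_one] at h1
    haveI : (P : Subgroup G).Normal := normalizer_eq_top_iff.mp h1
    rcases Subgroup.Normal.eq_bot_or_eq_top (H := (P : Subgroup G)) inferInstance with h' | h'
    · rw [h', card_bot] at hP; exact hp.out.one_lt.ne hP
    · rw [h', card_top, hG, hm] at hP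
      refine hpm ?_
      have : m = 1 := by nlinarith [hp.out.pos]
      rw [this] at hm
      exfalso
      rw [mul_one] at hm
      exact (by norm_num : ¬ Nat.Prime 7920) (hm ▸ hp.out)
  · have h1 : Nat.card (Sylow p G) ∣ Nat.card G := card_sylow_dvd_card
    rw [hG, hm] at h1
    refine (Nat.Coprime.dvd_mul_left ?_).mp h1
    refine (hp.out.coprime_iff_not_dvd.mpr fun h => ?_).symm
    have h2 := card_sylow_modEq_one p G
    rw [Nat.ModEq, Nat.mod_eq_of_lt hp.out.one_lt, Nat.mod_eq_zero_of_dvd h] at h2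
    exact zero_ne_one h2
  · rw [CfsgLib.SmallGroups.Order459648.card_centralizer_mul_relIndex, mul_comm,
      card_sylow_mul_card_normalizer P, hG]
  · exact fun h => not_normalizer_le_centralizer hna (by rw [hG, hm]; exact dvd_mul_right p m) P
      (Subgroup.relIndex_eq_one.mp h)
  · exact (dvd_of_eq hP.symm).trans (Subgroup.card_dvd_of_le (le_centralizer P hP))

/-- With twelve Sylow 11-subgroups the centraliser has at most eleven elements. -/
theorem centralizer_le_eleven [Fact (Nat.Prime 11)] (P : Sylow 11 G)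
    (hP : Nat.card (P : Subgroup G) = 11) (h12 : Nat.card (Sylow 11 G) = 12) :
    Nat.card (centralizer ((P : Subgroup G) : Set G)) ≤ 11 := by
  classical
  haveI : Fintype (Sylow 11 G) := Fintype.ofFinite _
  obtain ⟨a, haP⟩ : ∃ a : Sylow 11 G, a ≠ P := by
    haveI : Nontrivial (Sylow 11 G) := Finite.one_lt_card_iff_nontrivial.mp (by omega)
    exact exists_ne P
  set x := gen P hP with hx
  have hxP : ∀ i : ℕ, x ^ i ∈ (P : Subgroup G) := fun i => pow_mem (gen_mem P hP) i
  have hfixP : ∀ g ∈ normalizer ((P : Subgroup G) : Set G), g • P = P := fun g hg =>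
    Sylow.smul_eq_iff_mem_normalizer.mpr hg
  -- a nontrivial power of `x` moves `a`
  have hmove : ∀ i : ℕ, i < 11 → 0 < i → x ^ i • a ≠ a := by
    intro i hi hi0 h
    have hm : x ^ i ∈ normalizer ((a : Subgroup G) : Set G) := Sylow.smul_eq_iff_mem_normalizer.mp h
    have hai : x ^ i ∈ (a : Subgroup G) :=
      CfsgLib.FGS.mem_of_mem_normalizer a ⟨1, by
        rw [pow_one]
        refine orderOf_eq_prime ?_ (fun h1 => ?_)
        · rw [← pow_mul, mul_comm, pow_mul, show x ^ 11 = 1 from orderOf_gen P hP ▸ pow_orderOf_eq_one _,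
            one_pow]
        · have := orderOf_dvd_of_pow_eq_one h1
          rw [hx, orderOf_gen P hP] at this
          have := Nat.le_of_dvd hi0 this
          omega⟩ hm
    refine haP (Sylow.ext ?_)
    have hz : zpowers (x ^ i) = (P : Subgroup G) := by
      have := zpowers_pw P hP (a := (i : ZMod 11)) (fun h0 => by
        rw [ZMod.natCast_eq_zero_iff] at h0
        have := Nat.le_of_dvd hi0 h0
        omega)
      rwa [pw_natCast] at this
    have hle : (P : Subgroup G) ≤ (a : Subgroup G) := hz ▸ zpowers_le.mpr hai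
    exact P.is_maximal' a.isPGroup' hle
  -- all Sylow subgroups
  have hinj : Function.Injective fun i : Fin 11 => x ^ (i : ℕ) • a := by
    have key : ∀ i j : Fin 11, (i : ℕ) < j → x ^ (i : ℕ) • a ≠ x ^ (j : ℕ) • a := fun i j h he => by
      refine hmove ((j : ℕ) - i) (by omega) (by omega) ?_
      refine smul_left_cancel (x ^ (i : ℕ)) ?_
      rw [← mul_smul, ← pow_add, Nat.add_sub_cancel' h.le]
      exact he.symm
    intro i j h
    rcases lt_trichotomy (i : ℕ) j with h' | h' | h'
    · exact absurd h (key i j h')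
    · exact Fin.ext h'
    · exact absurd h.symm (key j i h')
  have hcover : ∀ Q : Sylow 11 G, Q = P ∨ ∃ i : Fin 11, x ^ (i : ℕ) • a = Q := by
    by_contra hne
    push Not at hne
    obtain ⟨Q, hQP, hQ⟩ := hne
    have hnP : ∀ i : Fin 11, x ^ (i : ℕ) • a ≠ P := fun i he => haP (smul_left_cancel (x ^ (i : ℕ))
      (he.trans (hfixP _ (le_normalizer (hxP i))).symm))
    have h1 : ((Finset.univ.image fun i : Fin 11 => x ^ (i : ℕ) • a) ∪ {P, Q}).card ≤ 12 := by
      rw [← h12, Nat.card_eq_fintype_card]; exact Finset.card_le_univ _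
    rw [Finset.card_union_of_disjoint (by
      simp only [Finset.disjoint_left, Finset.mem_image, Finset.mem_univ, true_and, Finset.mem_insert,
        Finset.mem_singleton]
      rintro _ ⟨i, rfl⟩ (h | h)
      exacts [hnP i h, hQ i h]), Finset.card_image_of_injective _ hinj, Finset.card_pair hQP.symm,
      Finset.card_univ, Fintype.card_fin] at h1
    omega
  -- a permutation kernel is trivial
  have hker : ∀ g : G, (∀ Q : Sylow 11 G, g • Q = Q) → g = 1 := by
    intro g hg
    rcases Subgroup.Normal.eq_bot_or_eq_top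
      (H := (MulAction.toPermHom G (Sylow 11 G)).ker) inferInstance with h | h
    · exact Subgroup.mem_bot.mp (h ▸ (Equiv.ext hg : MulAction.toPermHom G (Sylow 11 G) g = 1))
    · exfalso
      obtain ⟨w, hw⟩ := MulAction.exists_smul_eq G P a
      have h2 : MulAction.toPermHom G (Sylow 11 G) w = 1 := MonoidHom.mem_ker.mp (h ▸ mem_top w)
      have h3 := Equiv.ext_iff.mp h2 P
      exact haP (hw.symm.trans h3)
  -- the orbit map of the centraliser
  let Φ : centralizer ((P : Subgroup G) : Set G) → {Q : Sylow 11 G // Q ≠ P} := fun c =>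
    ⟨(c : G) • a, fun h => haP (smul_left_cancel (c : G)
      (h.trans (hfixP _ (centralizer_le_normalizer' _ c.2)).symm))⟩
  have hΦ : Function.Injective Φ := by
    intro c d h
    have h0 : (c : G) • a = (d : G) • a := congrArg Subtype.val h
    have hg : ((d⁻¹ * c : centralizer ((P : Subgroup G) : Set G)) : G) • a = a := by
      rw [Subgroup.coe_mul, Subgroup.coe_inv, mul_smul, h0, inv_smul_smul]
    refine (inv_mul_eq_one.mp ?_).symm
    refine Subtype.ext (hker _ fun Q => ?_)
    rcases hcover Q with rfl | ⟨i, rfl⟩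
    · exact hfixP _ (centralizer_le_normalizer' _ (d⁻¹ * c).2)
    · rw [← mul_smul, ← (Subgroup.mem_centralizer_iff.mp (d⁻¹ * c).2 _ (hxP i)), mul_smul, hg]
  refine (Nat.card_le_card_of_injective Φ hΦ).trans ?_
  rw [Nat.card_eq_fintype_card, Fintype.card_subtype_compl, Fintype.card_subtype_eq,
    ← Nat.card_eq_fintype_card, h12]

/-- The Sylow 11-subgroup. -/
theorem eleven (hG : Nat.card G = 7920) [Fact (Nat.Prime 11)] (P : Sylow 11 G) :
    Nat.card (P : Subgroup G) = 11 ∧ Nat.card (centralizer ((P : Subgroup G) : Set G)) = 11 ∧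
      (centralizer ((P : Subgroup G) : Set G)).relIndex (normalizer ((P : Subgroup G) : Set G)) = 5 := by
  obtain ⟨hP, n, c, e, hn, hc, he, hmod, hn1, hnd, heq, hed, he1, hpc⟩ :=
    sylow_numbers hG (m := 720) (by norm_num) (by norm_num) P
  refine ⟨hP, ?_⟩
  rw [hc, he]
  have hn' : n = 12 ∨ n = 45 ∨ n = 144 := by
    have key : ∀ k ∈ Nat.divisors 720, k % 11 = 1 → k = 1 ∨ k = 12 ∨ k = 45 ∨ k = 144 := by decide +kernel
    have := key n (Nat.mem_divisors.mpr ⟨hnd, by norm_num⟩) hmod
    omega
  have he' : e = 2 ∨ e = 5 ∨ e = 10 := by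
    have key : ∀ k ∈ Nat.divisors 10, k ≠ 1 → k = 2 ∨ k = 5 ∨ k = 10 := by decide
    exact key e (Nat.mem_divisors.mpr ⟨hed, by norm_num⟩) he1
  rcases hn' with rfl | rfl | rfl
  · have := centralizer_le_eleven P hP hn
    rcases he' with rfl | rfl | rfl <;> omega
  · exfalso
    refine CfsgLib.KnownSimple.Order7920.forty_five_false (H := G) (i := 4) le_rfl (by rw [hG]; norm_num) hn
      (fun M hM => ?_) (fun K hK hK2 => ?_)
    · haveI := normal_of_index_eq_two hM
      rcases Subgroup.Normal.eq_bot_or_eq_top (H := M) inferInstance with h | h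
      · rw [h, index_bot, hG] at hM; norm_num at hM
      · rw [h, index_top] at hM; norm_num at hM
    · haveI := hK
      refine (Subgroup.Normal.eq_bot_or_eq_top hK).resolve_right fun h => ?_
      subst h
      obtain ⟨k, hk⟩ := IsPGroup.iff_card.mp hK2
      rw [card_top, hG] at hk
      have h11 : 11 ∣ 2 ^ k := hk ▸ (by norm_num)
      have := (Nat.prime_dvd_prime_iff_eq Fact.out Nat.prime_two).mp ((Fact.out : Nat.Prime 11).dvd_of_dvd_pow h11)
      omega
  · obtain ⟨k, rfl⟩ := hpc
    rcases he' with rfl | rfl | rfl <;> omega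

/-- A character of degree 10 forbids elements of order 10. -/
theorem not_commute (hG : Nat.card G = 7920) (χ : IrrCharacter G) (hχ : deg χ = 10) {t x : G}
    (ht : orderOf t = 2) (hx : orderOf x = 5) : ¬ Commute t x := by
  intro hcomm
  classical
  have hna := not_comm_of_card hG
  have htt : t * t = 1 := by rw [← sq, ← ht]; exact pow_orderOf_eq_one t
  have h4 := CfsgLib.SmallGroups.Order459648.four_dvd_sub
    (CfsgLib.SmallGroups.commutator_eq_top_of_simple hna) χ htt (intVal_spec χ htt)
  rw [hχ] at h4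
  have hne : χ ≠ CfsgLib.Char.irrOne := fun h => by rw [h, deg_irrOne] at hχ; norm_num at hχ
  have hlt := CfsgLib.SmallGroups.SignedData.intVal_sq_lt hna χ hne htt (fun h => by
    rw [h, orderOf_one] at ht; norm_num at ht)
  rw [hχ] at hlt
  -- the character vanishes on the elements of order divisible by 5
  have hvan : ∀ g : G, 5 ∣ orderOf g → (χ : G → ℂ) g = 0 := fun g hg =>
    CfsgLib.Char.vanish_of_defect_zero χ.2 (p := 5) (n := 1) (d := 10) (by norm_num)
      (by rw [hG]; norm_num) (by rw [hG]; norm_num) (by rw [deg_spec, hχ]) (by norm_num) hg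
  set H := zpowers (t * x) with hH
  have hord : orderOf (t * x) = 10 := by
    rw [hcomm.orderOf_mul_eq_mul_orderOf_of_coprime (by rw [ht, hx]; norm_num), ht, hx]
  have hHc : Nat.card H = 10 := by rw [hH, Nat.card_zpowers, hord]
  obtain ⟨k, hk⟩ := CfsgLib.Char.classInner_char_nat
    (CfsgLib.Char.isCharacter_res H (CfsgLib.Char.isCharacter_of_isIrr χ.2))
    CfsgLib.Char.isCharacter_one
  rw [CfsgLib.Char.classInner_one_right, hHc] at hk
  have htH : t ∈ H := by
    refine ⟨5, ?_⟩
    show (t * x) ^ (5 : ℤ) = t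
    rw [zpow_ofNat, hcomm.mul_pow, ← hx, pow_orderOf_eq_one, hx, mul_one,
      show t ^ 5 = t ^ 2 * t ^ 2 * t by rw [← pow_add, ← pow_succ], sq, htt, one_mul, one_mul]
  have hsum : ∑ h : H, (χ : G → ℂ) h = (χ : G → ℂ) 1 + (χ : G → ℂ) t := by
    have hne' : (1 : H) ≠ ⟨t, htH⟩ := fun h => by
      have h' : (1 : G) = t := congrArg Subtype.val h
      rw [← h', orderOf_one] at ht
      norm_num at ht
    rw [← Finset.sum_subset (Finset.subset_univ {(1 : H), ⟨t, htH⟩}) (fun h _ hh => ?_),
      Finset.sum_pair hne']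
    · rfl
    · refine hvan h ?_
      by_contra h5
      apply hh
      have hd : orderOf (h : G) ∣ 10 := by
        rw [← hord]; exact orderOf_dvd_of_mem_zpowers h.2
      have hd2 : orderOf (h : G) ∣ 2 :=
        (Nat.Coprime.dvd_mul_left (m := 5) (by
          exact ((show Nat.Prime 5 by norm_num).coprime_iff_not_dvd.mpr h5).symm)).mp (show orderOf (h : G) ∣ 5 * 2 from hd)
      obtain ⟨i, hi⟩ : ∃ i : ℕ, (t * x) ^ i = h := by
        exact (isOfFinOrder_of_finite (t * x)).mem_zpowers_iff_mem_range_orderOf.mp h.2 |>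
          fun hm => (Finset.mem_image.mp hm).elim fun i hi => ⟨i, hi.2⟩
      have hsq : (t * x) ^ (2 * i) = 1 := by
        rw [mul_comm, pow_mul, hi]
        exact orderOf_dvd_iff_pow_eq_one.mp hd2
      have hi5 : 5 ∣ i := by
        have := orderOf_dvd_of_pow_eq_one hsq
        rw [hord] at this
        omega
      obtain ⟨j, rfl⟩ := hi5
      have ht5 : (t * x) ^ 5 = t := by
        rw [hcomm.mul_pow, ← hx, pow_orderOf_eq_one, hx, mul_one,
          show t ^ 5 = t ^ 2 * t ^ 2 * t by rw [← pow_add, ← pow_succ], sq, htt, one_mul, one_mul]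
      rw [pow_mul, ht5] at hi
      rcases Nat.even_or_odd' j with ⟨r, rfl | rfl⟩
      · rw [pow_mul, sq, htt, one_pow] at hi
        exact Finset.mem_insert.mpr (Or.inl (Subtype.ext hi.symm))
      · rw [pow_succ, pow_mul, sq, htt, one_pow, one_mul] at hi
        exact Finset.mem_insert_of_mem (Finset.mem_singleton.mpr (Subtype.ext hi.symm))
  rw [hsum, deg_spec, hχ, intVal_spec χ htt] at hk
  have h10 : (10 : ℤ) + intVal χ htt = 10 * k := by
    have h' : ((10 : ℂ)) + (intVal χ htt : ℂ) = 10 * (k : ℂ) := by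
      rw [← hk]; push_cast; ring
    exact_mod_cast h'
  have hk2 : (k : ℤ) = 0 ∨ (k : ℤ) = 1 ∨ 2 ≤ (k : ℤ) := by omega
  rcases hk2 with h | h | h <;> rw [show intVal χ htt = 10 * (k : ℤ) - 10 by omega] at hlt h4
  · rw [h] at hlt; norm_num at hlt
  · rw [h] at h4; norm_num at h4
  · push_cast at hlt; nlinarith

/-- The Sylow 5-subgroup. -/
theorem five (hG : Nat.card G = 7920) [Fact (Nat.Prime 5)] [Fact (Nat.Prime 11)] (χ : IrrCharacter G)
    (hχ : deg χ = 10) (P : Sylow 5 G) :
    Nat.card (P : Subgroup G) = 5 ∧ Nat.card (centralizer ((P : Subgroup G) : Set G)) = 5 ∧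
      (centralizer ((P : Subgroup G) : Set G)).relIndex (normalizer ((P : Subgroup G) : Set G)) = 4 := by
  obtain ⟨hP, n, c, e, hn, hc, he, hmod, hn1, hnd, heq, hed, he1, hpc⟩ :=
    sylow_numbers hG (m := 1584) (by norm_num) (by norm_num) P
  refine ⟨hP, ?_⟩
  have hxo := orderOf_gen P hP
  have hcomm : ∀ y ∈ centralizer ((P : Subgroup G) : Set G), Commute y (gen P hP) := fun y hy =>
    (Subgroup.mem_centralizer_iff.mp hy _ (gen_mem P hP)).symm
  have hodd : ¬ 2 ∣ c := by
    intro h
    haveI : Fact (Nat.Prime 2) := ⟨Nat.prime_two⟩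
    obtain ⟨t, ht⟩ := exists_prime_orderOf_dvd_card' (G := centralizer ((P : Subgroup G) : Set G)) 2 (hc.symm ▸ h)
    exact not_commute hG χ hχ (t := (t : G)) (by rw [Subgroup.orderOf_coe, ht]) hxo (hcomm t t.2)
  have h11 : ¬ 11 ∣ c := by
    intro h
    obtain ⟨y, hy⟩ := exists_prime_orderOf_dvd_card' (G := centralizer ((P : Subgroup G) : Set G)) 11 (hc.symm ▸ h)
    have hyG : orderOf (y : G) = 11 := by rw [Subgroup.orderOf_coe, hy]
    have hz : IsPGroup 11 (zpowers (y : G)) :=
      IsPGroup.of_card (n := 1) (by rw [Nat.card_zpowers, hyG, pow_one])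
    obtain ⟨Q, hQ⟩ := hz.exists_le_sylow
    obtain ⟨hQc, hQC, -⟩ := eleven hG Q
    have hQy : zpowers (y : G) = (Q : Subgroup G) :=
      Subgroup.eq_of_le_of_card_ge hQ (by rw [hQc, Nat.card_zpowers, hyG])
    have hxQ : gen P hP ∈ centralizer ((Q : Subgroup G) : Set G) := by
      rw [← hQy, zpowers_eq_closure, centralizer_closure, mem_centralizer_singleton_iff]
      exact (hcomm y y.2).eq.symm
    have h5 := Subgroup.orderOf_dvd_natCard (s := centralizer ((Q : Subgroup G) : Set G)) hxQ
    rw [hQC, hxo] at h5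
    norm_num at h5
  rw [hc, he]
  have hn' : n = 6 ∨ n = 11 ∨ n = 16 ∨ n = 36 ∨ n = 66 ∨ n = 176 ∨ n = 396 := by
    have key : ∀ k ∈ Nat.divisors 1584, k % 5 = 1 →
        k = 1 ∨ k = 6 ∨ k = 11 ∨ k = 16 ∨ k = 36 ∨ k = 66 ∨ k = 176 ∨ k = 396 := by decide +kernel
    have := key n (Nat.mem_divisors.mpr ⟨hnd, by norm_num⟩) hmod
    omega
  have he' : e = 2 ∨ e = 4 := by
    have key : ∀ k ∈ Nat.divisors 4, k ≠ 1 → k = 2 ∨ k = 4 := by decide
    exact key e (Nat.mem_divisors.mpr ⟨hed, by norm_num⟩) he1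
  rcases hn' with rfl | rfl | rfl | rfl | rfl | rfl | rfl <;> rcases he' with rfl | rfl <;> omega

end CfsgLib.SmallGroups.MElevenDegrees
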